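import Cfsg.Agent.Lib.McLType.Variants

/-!
# The connection of the two further elements, inside a larger centraliser

As `McLType.goodRels_hold`, assuming only that the elements centralising the two six-generator subgroups lie
in the image.
-/

set_option autoImplicit false
set_option maxRecDepth 100000

namespace CfsgLib.McLSub

open CfsgLib.McLType

variable {M : Type*} [Group M] (ι : Cm →* M)
variable {n0 n1 : M} (h0 : ∀ w ∈ relN 0, ev (gl ι n0) w = 1) (h1 : ∀ w ∈ relN 1, ev (gl ι n1) w = 1)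

include h0 h1 in
/-- The relators of the good connection hold. -/
theorem goodRels_hold (hι : Function.Injective ι)
    (hdx : ∀ x : M, x * ι tm = ι tm * x →
      (∀ u < 6, x * ι (ev xm (goodSys.dx [u])) = ι (ev xm (goodSys.dx [u])) * x) → x ∈ ι.range)
    (hdy : ∀ x : M, x * ι tm = ι tm * x →
      (∀ u < 6, x * ι (ev xm (goodSys.dy [u])) = ι (ev xm (goodSys.dy [u])) * x) → x ∈ ι.range) :
    ∀ w ∈ goodRels, ev (gl ι n0) w = 1 := by
  have hl := linkB_ok
  simp only [linkB, ltB, Bool.and_eq_true, decide_eq_true_eq, List.all_eq_true, List.mem_range, Nat.blt_eq] at hl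
  obtain ⟨⟨⟨⟨⟨⟨⟨⟨hp0, hp1⟩, hlet0⟩, hlet1⟩, hlen⟩, hlen1⟩, ht⟩, hb⟩, hu⟩ := hl
  -- the conjugations
  have hxy0 : ∀ d : List ℕ, (∀ i ∈ d, i < 6) →
      n0⁻¹ * ev (gl ι n0) (goodSys.dx d) * n0 = ev (gl ι n0) (goodSys.dy d) := fun d hd =>
    ev_dxy (Y := firstSys) h0 hlet0 hp0 fun i hi => lt_of_lt_of_eq (hd i hi) hlen.symm
  have hxy1 : ∀ d : List ℕ, (∀ i ∈ d, i < 6) →
      n1⁻¹ * ev (gl ι n1) (secondSys.dx d) * n1 = ev (gl ι n1) (secondSys.dy d) := fun d hd =>
    ev_dxy (Y := secondSys) h1 hlet1 hp1 fun i hi => lt_of_lt_of_eq (hd i hi) hlen1.symm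
  have hT := conj_t ι h0
  have hT1 := conj_t ι h1
  have hγt : n0⁻¹ * n1 * ι tm = ι tm * (n0⁻¹ * n1) := by
    rw [mul_assoc, show n1 * ι tm = ι bm * n1 by rw [← hT1, inv_mul_cancel_right], ← hT]
    group
  obtain ⟨g, hgdef⟩ : ∃ g, g = ev xm goodConn := ⟨_, rfl⟩
  obtain ⟨γ, hγ⟩ : ∃ γ, γ = n0⁻¹ * n1 := ⟨_, rfl⟩
  obtain ⟨c', hc'⟩ := hdy (γ * (ι g)⁻¹) (by
    have e1 : (ι g)⁻¹ * ι tm = ι tm * (ι g)⁻¹ := by rw [← map_inv, ← map_mul, ← map_mul, cm_comm_tm]
    rw [mul_assoc, e1, ← mul_assoc, hγ, hγt, mul_assoc]) fun u hu6 => by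
      obtain ⟨⟨⟨hd, hx⟩, hy⟩, -⟩ := hu u hu6
      have hsing : ∀ i ∈ [u], i < 6 := fun i hi => List.mem_singleton.1 hi ▸ hu6
      have e0 := hxy0 [u] hsing
      have e1 := hxy1 _ hd
      rw [gl_x ι n0 _ (lt_of_eqX hx).1, gl_x ι n0 _ (fun l hl => (lt_of_eqX hy).2 l (List.mem_append_left _ hl))] at e0
      rw [gl_x ι n1 _ (lt_of_eqX hx).2, gl_x ι n1 _ (fun l hl => (lt_of_eqX hy).1 l (List.mem_append_right _ hl)),
        ← xm_eq_of_eqX hx] at e1
      have hg := congrArg ι (xm_mul_eq_of_eqX hy)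
      rw [map_mul, map_mul, ← hgdef] at hg
      have e2 : γ⁻¹ * ι (ev xm (goodSys.dy [u])) * γ = ι (ev xm (secondSys.dy (secondOfFirst.getD u []))) := by
        rw [hγ, ← e1, ← e0]; group
      rw [← e2] at hg
      calc γ * (ι g)⁻¹ * ι (ev xm (goodSys.dy [u]))
          = γ * (ι g)⁻¹ * (ι (ev xm (goodSys.dy [u])) * ι g) * (ι g)⁻¹ := by group
        _ = γ * (ι g)⁻¹ * (ι g * (γ⁻¹ * ι (ev xm (goodSys.dy [u])) * γ)) * (ι g)⁻¹ := by rw [hg]
        _ = _ := by group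
  obtain ⟨c, hc⟩ : ∃ c, ι c = n0⁻¹ * n1 :=
    ⟨c' * g, by rw [map_mul, hc', hγ, inv_mul_cancel_right]⟩
  -- `c g⁻¹` commutes with the images of the pairs
  have hY : ∀ u < 6, c * g⁻¹ * ev xm (goodSys.dy [u]) = ev xm (goodSys.dy [u]) * (c * g⁻¹) := by
    intro u hu6
    obtain ⟨⟨⟨hd, hx⟩, hy⟩, -⟩ := hu u hu6
    have hsing : ∀ i ∈ [u], i < 6 := fun i hi => List.mem_singleton.1 hi ▸ hu6
    have e0 := hxy0 [u] hsing
    have e1 := hxy1 _ hd
    rw [gl_x ι n0 _ (lt_of_eqX hx).1, gl_x ι n0 _ (fun l hl => (lt_of_eqX hy).2 l (List.mem_append_left _ hl))] at e0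
    rw [gl_x ι n1 _ (lt_of_eqX hx).2, gl_x ι n1 _ (fun l hl => (lt_of_eqX hy).1 l (List.mem_append_right _ hl)),
      ← xm_eq_of_eqX hx] at e1
    have hg := xm_mul_eq_of_eqX hy
    have e2 : c⁻¹ * ev xm (goodSys.dy [u]) * c = ev xm (secondSys.dy (secondOfFirst.getD u [])) := hι (by
      rw [map_mul, map_mul, map_inv, hc, ← e1, ← e0]; group)
    rw [← e2, ← hgdef] at hg
    calc c * g⁻¹ * ev xm (goodSys.dy [u])
        = c * g⁻¹ * (g * (c⁻¹ * ev xm (goodSys.dy [u]) * c) * g⁻¹) := by rw [hg]; group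
      _ = _ := by group
  -- pulled back it centralises the centraliser of the shared involution
  have hX : ∀ u < 6, n0 * ι (c * g⁻¹) * n0⁻¹ * ι (ev xm (goodSys.dx [u])) =
      ι (ev xm (goodSys.dx [u])) * (n0 * ι (c * g⁻¹) * n0⁻¹) := by
    intro u hu6
    obtain ⟨⟨⟨-, hx⟩, hy⟩, -⟩ := hu u hu6
    have e0 := hxy0 [u] (fun i hi => List.mem_singleton.1 hi ▸ hu6)
    rw [gl_x ι n0 _ (lt_of_eqX hx).1, gl_x ι n0 _ (fun l hl => (lt_of_eqX hy).2 l (List.mem_append_left _ hl))] at e0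
    have e1 := congrArg ι (hY u hu6)
    rw [map_mul ι (c * g⁻¹), map_mul ι _ (c * g⁻¹), ← e0] at e1
    calc n0 * ι (c * g⁻¹) * n0⁻¹ * ι (ev xm (goodSys.dx [u]))
        = n0 * (ι (c * g⁻¹) * (n0⁻¹ * ι (ev xm (goodSys.dx [u])) * n0)) * n0⁻¹ := by group
      _ = n0 * ((n0⁻¹ * ι (ev xm (goodSys.dx [u])) * n0) * ι (c * g⁻¹)) * n0⁻¹ := by rw [e1]
      _ = _ := by group
  have htm : tm = ev xm (goodSys.dx [0]) * ev xm (goodSys.dx [1]) := by
    rw [tm, ← xm_eq_of_eqX ht, ← ev_append, ← dx_append]; rfl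
  obtain ⟨w, hw⟩ := hdx (n0 * ι (c * g⁻¹) * n0⁻¹) (by
    rw [htm, map_mul ι (ev xm (goodSys.dx [0]))]
    exact Commute.mul_right (hX 0 (by norm_num)) (hX 1 (by norm_num))) hX
  have hwX : ∀ u < 6, w * ev xm (goodSys.dx [u]) = ev xm (goodSys.dx [u]) * w := fun u hu6 =>
    hι (by rw [map_mul, map_mul, hw, hX u hu6])
  have hbm : bm = ev xm (goodSys.dx [0]) := (xm_eq_of_eqX hb).symm
  -- it is one of the four central elements
  obtain ⟨e, he, hwe⟩ : ∃ e ∈ centreLists, w = ev xm (goodSys.dx e) := by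
    have hcb := centre_ok
    simp only [moveB, fourB, Bool.or_eq_true, List.any_eq_true, List.mem_range] at hcb
    obtain ⟨hrep, hcen⟩ := hcb
    obtain ⟨⟨r, ⟨_, ⟨i, rfl⟩⟩⟩, hwr⟩ := mem_repSet w
    simp only at hwr
    set d := ev xm (goodSys.dx (dElems.getD i []))
    have hdb : d * bm = bm * d := by
      have hmem : ∀ u ∈ dElems.getD i [], u < 6 := by
        have h2 := dClosedB_ok
        simp only [dClosedB, Bool.and_eq_true, decide_eq_true_eq, List.all_eq_true] at h2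
        intro u hu'
        rw [List.getD_eq_getElem _ _ (by rw [h2.1.1.1.1]; exact i.isLt)] at hu'
        exact lt_of_lt_of_eq (h2.1.2 _ (List.getElem_mem _) u hu') hlen
      show ev xm (goodSys.dx (dElems.getD i [])) * bm = bm * ev xm (goodSys.dx (dElems.getD i []))
      revert hmem
      generalize dElems.getD i [] = l
      intro hmem
      induction l with
      | nil => simp [Sys.dx]
      | cons a l ih =>
        have e3 := xm_mul_eq_of_eqX (hu a (hmem a List.mem_cons_self)).2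
        rw [show a :: l = [a] ++ l from rfl, dx_append, ev_append, mul_assoc,
          ih fun b hb' => hmem b (List.mem_cons_of_mem _ hb'), ← mul_assoc, bm, e3, mul_assoc]
    have hr0 : (r : ℕ) = 0 := by
      by_contra hr
      have h3 := hrep ((r : ℕ) - 1) (by omega)
      rw [show (r : ℕ) - 1 + 1 = r by omega] at h3
      refine xm_ne_of_neB h3 ?_
      have h4 := hwX 0 (by norm_num)
      rw [← hbm, ← hwr, mul_assoc, hdb, ← mul_assoc, ← mul_assoc] at h4
      rw [ev_append, ev_append]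
      exact mul_right_cancel h4
    have hrep0 : cosetReps.getD 0 [] = [] := by decide +kernel
    rw [hr0, hrep0, ev_nil, one_mul] at hwr
    rcases hcen i i.isLt with ⟨e, he, hee⟩ | ⟨u, hu6, hne⟩
    · exact ⟨e, he, hwr.symm.trans (xm_eq_of_eqX hee)⟩
    · refine absurd ?_ (xm_ne_of_neB hne)
      rw [ev_append, ev_append]
      have h5 := hwX u hu6
      rwa [← hwr] at h5
  have hcand := caseB_ok
  simp only [caseB, ltB, Bool.and_eq_true, List.all_eq_true, Nat.blt_eq, decide_eq_true_eq, Bool.or_eq_true] at hcand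
  obtain ⟨⟨⟨hcw, hfw⟩, hei⟩, hcase⟩ := hcand e he
  have hce : ι (ev xm (candWord e)) = n0⁻¹ * n1 := by
    have hdy : ∀ l ∈ goodSys.dy e, l < 12 := fun l hl => hcw l (List.mem_append_left _ hl)
    have hdx : ∀ l ∈ goodSys.dx e, l < 12 := by
      intro l hl
      simp only [Sys.dx, List.mem_flatten, List.mem_map] at hl
      obtain ⟨_, ⟨u, hu', rfl⟩, hl⟩ := hl
      have h6 := (lt_of_eqX (hu u (hei u hu')).1.1.2).1
      exact h6 l (by simpa [Sys.dx] using hl)
    have e4 := hxy0 e hei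
    rw [gl_x ι n0 _ hdx, gl_x ι n0 _ hdy, ← hwe, hw] at e4
    rw [candWord, ev_append, map_mul, ← e4, ← hgdef, ← hc, map_mul ι c, map_inv]
    group
  -- moving the second element
  set T := ι tm
  have h1' : ∀ v ∈ relN 1, ev (gl ι (T * n1 * T⁻¹)) v = 1 := by
    intro v hv
    have h7 : ev (fun l => MulAut.conj T (gl ι n1 l)) v = 1 := by
      rw [← map_one (MulAut.conj T), ← h1 v hv]
      exact (map_ev (MulAut.conj T).toMonoidHom _ v).symm
    rw [← h7]
    refine ev_congr v fun l _ => ?_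
    by_cases h12 : l < 12
    · simp only [gl, if_pos h12, MulAut.conj_apply]
      rw [← map_mul, ← cm_comm_tm, map_mul, mul_inv_cancel_right]
    · simp only [gl, if_neg h12, MulAut.conj_apply]
      split_ifs
      · rfl
      · group
  have hfe : ι (ev xm (flipWord (candWord e))) = n0⁻¹ * (T * n1 * T⁻¹) := by
    have e5 := hxy0 [0, 1] (fun i hi => by simp at hi; omega)
    have hdy : ∀ l ∈ goodSys.dy [0, 1], l < 12 := fun l hl =>
      hfw l (List.mem_append_left _ (List.mem_append_left _ hl))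
    rw [gl_x ι n0 _ (lt_of_eqX ht).1, gl_x ι n0 _ hdy, xm_eq_of_eqX ht] at e5
    rw [flipWord, ev_append, ev_append, map_mul, map_mul, ev_invWord xm tWord (fun l hl => xm_flip (by
      revert l; decide)), map_inv, hce, ← e5]
    show n0⁻¹ * T * n0 * (n0⁻¹ * n1) * T⁻¹ = _
    group
  have hlet : ∀ w ∈ relN 1, ∀ l ∈ w, l < 14 := hlet1
  rcases hcase with ((hq | hq) | hq) | hq
  · rw [goodRels_eq]
    exact joinRels_hold ι h0 h1 (lt_of_eqX hq).2 ((congrArg ι (xm_eq_of_eqX hq)).symm.trans hce) hlet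
  · rw [goodRels_eq]
    exact joinRels_hold ι h0 h1' (lt_of_eqX hq).2 ((congrArg ι (xm_eq_of_eqX hq)).symm.trans hfe) hlet
  · refine (bad_false ι hι n0 ?_).elim
    rw [badRels_eq]
    exact joinRels_hold ι h0 h1 (lt_of_eqX hq).2 ((congrArg ι (xm_eq_of_eqX hq)).symm.trans hce) hlet
  · refine (bad_false ι hι n0 ?_).elim
    rw [badRels_eq]
    exact joinRels_hold ι h0 h1' (lt_of_eqX hq).2 ((congrArg ι (xm_eq_of_eqX hq)).symm.trans hfe) hlet

end CfsgLib.McLSub
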