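import Cfsg.Agent.Lib.McLSub.Coord

/-!
# Elements centralising the six generators

Both six-element generating sets generate subgroups containing the first elementary subgroup.
-/

set_option autoImplicit false
set_option maxRecDepth 100000

set_option linter.unusedSectionVars false

namespace CfsgLib.McLSub

open Subgroup CfsgLib.McLType CfsgLib.McLType.NE

/-- The basis of the first elementary subgroup in both sets of six generators. -/
noncomputable def sixB : Bool :=
  ([(7, 1, 1), (1, 2, 2), (16, 3, 4), (3, 4, 8)] : List (ℕ × ℕ × ℕ)).all fun p =>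
    eqX (goodSys.dx (dElems.getD p.1 [])) (maskWord 0 p.2.2) &&
      eqX (goodSys.dy (dElems.getD p.2.1 [])) (maskWord 0 p.2.2) &&
      (dElems.getD p.1 []).all (fun i => Nat.blt i 6) && (dElems.getD p.2.1 []).all (fun i => Nat.blt i 6)

theorem sixB_ok : sixB = true := by decide +kernel

variable {G : Type*} [Group G] [Finite G] {t : G} (S : Sub t)

theorem commute_dx {x : G}
    (h : ∀ u < 6, x * S.iota (ev xm (goodSys.dx [u])) = S.iota (ev xm (goodSys.dx [u])) * x) :
    ∀ d : List ℕ, (∀ u ∈ d, u < 6) → Commute x (S.iota (ev xm (goodSys.dx d)))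
  | [], _ => by simp [Sys.dx]
  | u :: d, hd => by
    rw [show goodSys.dx (u :: d) = goodSys.dx [u] ++ goodSys.dx d by simp [Sys.dx], ev_append, map_mul]
    exact Commute.mul_right (h u (hd u List.mem_cons_self))
      (commute_dx h d fun v hv => hd v (List.mem_cons_of_mem _ hv))

theorem commute_dy {x : G}
    (h : ∀ u < 6, x * S.iota (ev xm (goodSys.dy [u])) = S.iota (ev xm (goodSys.dy [u])) * x) :
    ∀ d : List ℕ, (∀ u ∈ d, u < 6) → Commute x (S.iota (ev xm (goodSys.dy d)))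
  | [], _ => by simp [Sys.dy]
  | u :: d, hd => by
    rw [show goodSys.dy (u :: d) = goodSys.dy [u] ++ goodSys.dy d by simp [Sys.dy], ev_append, map_mul]
    exact Commute.mul_right (h u (hd u List.mem_cons_self))
      (commute_dy h d fun v hv => hd v (List.mem_cons_of_mem _ hv))

theorem mem_of_basis {x : G} (hxt : x * t = t * x)
    (h : ∀ m : Fin 16, m ∈ ([1, 2, 4, 8] : List (Fin 16)) → Commute x (eS S.iota 0 m)) : x ∈ S.iota.range := by
  have hadd : ∀ p q, Commute x (eS S.iota 0 p) → Commute x (eS S.iota 0 q) → Commute x (eS S.iota 0 (xr p q)) := by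
    intro p q hp hq
    rw [← (setupS S 0).mul]
    exact hp.mul_right hq
  have hpick : ∀ i : Fin 16, ∀ d : Fin 16, d ∈ ([1, 2, 4, 8] : List (Fin 16)) →
      Commute x (eS S.iota 0 (pick i d.val d)) := by
    intro i d hd
    unfold pick
    split
    · exact h d hd
    · rw [(setupS S 0).one]; exact Commute.one_right x
  have hall : Acts (eS S.iota 0) x id := fun i => by
    rw [eq_pick i]
    exact mul_inv_eq_iff_eq_mul.2 (hadd _ _ (hadd _ _ (hpick i 1 (by simp)) (hpick i 2 (by simp)))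
      (hadd _ _ (hpick i 4 (by simp)) (hpick i 8 (by simp)))).eq
  exact S.norm_mem 0 x hxt ((setupS S 0).mem_normalizer hall)

theorem six_spec {m : Fin 16} (hm : m ∈ ([1, 2, 4, 8] : List (Fin 16))) :
    (∃ d, (∀ u ∈ d, u < 6) ∧ eS S.iota 0 m = S.iota (ev xm (goodSys.dx d))) ∧
      ∃ d, (∀ u ∈ d, u < 6) ∧ eS S.iota 0 m = S.iota (ev xm (goodSys.dy d)) := by
  have h := sixB_ok
  simp only [sixB, List.all_cons, List.all_nil, Bool.and_true, Bool.and_eq_true, List.all_eq_true, Nat.blt_eq] at h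
  obtain ⟨⟨⟨⟨a1, b1⟩, c1⟩, d1⟩, ⟨⟨⟨a2, b2⟩, c2⟩, d2⟩, ⟨⟨⟨a4, b4⟩, c4⟩, d4⟩, ⟨⟨⟨a8, b8⟩, c8⟩, d8⟩⟩ := h
  fin_cases hm
  · exact ⟨⟨_, c1, congrArg S.iota (xm_eq_of_eqX a1).symm⟩, _, d1, congrArg S.iota (xm_eq_of_eqX b1).symm⟩
  · exact ⟨⟨_, c2, congrArg S.iota (xm_eq_of_eqX a2).symm⟩, _, d2, congrArg S.iota (xm_eq_of_eqX b2).symm⟩
  · exact ⟨⟨_, c4, congrArg S.iota (xm_eq_of_eqX a4).symm⟩, _, d4, congrArg S.iota (xm_eq_of_eqX b4).symm⟩
  · exact ⟨⟨_, c8, congrArg S.iota (xm_eq_of_eqX a8).symm⟩, _, d8, congrArg S.iota (xm_eq_of_eqX b8).symm⟩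

theorem dx_mem {x : G} (hxt : x * t = t * x)
    (h : ∀ u < 6, x * S.iota (ev xm (goodSys.dx [u])) = S.iota (ev xm (goodSys.dx [u])) * x) : x ∈ S.iota.range :=
  mem_of_basis S hxt fun m hm => by
    obtain ⟨⟨d, hd, e⟩, -⟩ := six_spec S hm
    exact e ▸ commute_dx S h d hd

theorem dy_mem {x : G} (hxt : x * t = t * x)
    (h : ∀ u < 6, x * S.iota (ev xm (goodSys.dy [u])) = S.iota (ev xm (goodSys.dy [u])) * x) : x ∈ S.iota.range :=
  mem_of_basis S hxt fun m hm => by
    obtain ⟨-, d, hd, e⟩ := six_spec S hm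
    exact e ▸ commute_dy S h d hd

end CfsgLib.McLSub
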