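import Cfsg.Agent.Lib.McLSub.Exists
import Cfsg.Agent.Lib.McLSub.Join
import Cfsg.Agent.Lib.McLSub.Six
import Cfsg.Agent.Lib.McLType.Mcl

/-!
# The double cover and the further element generate a subgroup of McLaughlin type
-/

set_option autoImplicit false
set_option maxRecDepth 100000

namespace CfsgLib.McLSub

open CfsgLib.McLType

/-- **A subgroup of the type of the model.** -/
theorem exists_mcl {G : Type*} [Group G] [Finite G] {t : G} (S : Sub t)
    (hswap : ∀ k : Fin 2, ∃ g : G, g * t * g⁻¹ = S.iota bm ∧ g * S.iota bm * g⁻¹ = t ∧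
      g ∈ Subgroup.normalizer (eSet S.iota k)) :
    ∃ M : Subgroup G, S.iota.range ≤ M ∧ Nonempty (↥M ≃* ↥McLRec.Mgrp) := by
  classical
  obtain ⟨g0, a0, b0, c0⟩ := hswap 0
  obtain ⟨g1, a1, b1, c1⟩ := hswap 1
  obtain ⟨n0, h0⟩ := exists_word_n S 0 a0 b0 c0
  obtain ⟨n1, h1⟩ := exists_word_n S 1 a1 b1 c1
  have hgood : ∀ w ∈ goodRels, ev (gl S.iota n0) w = 1 :=
    goodRels_hold S.iota h0 h1 S.inj (fun x hx h => dx_mem S (by rwa [S.map_t] at hx) h)
      (fun x hx h => dy_mem S (by rwa [S.map_t] at hx) h)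
  -- the product with the model
  let ι2 : Cm →* G × Equiv.Perm (Fin 275) := S.iota.prod Cm.subtype
  let n2 : G × Equiv.Perm (Fin 275) := (n0, letter 0 12)
  let fsG : G × Equiv.Perm (Fin 275) →* G := MonoidHom.fst _ _
  let snP : G × Equiv.Perm (Fin 275) →* Equiv.Perm (Fin 275) := MonoidHom.snd _ _
  have hrel : ∀ w ∈ goodRels, ev (gl ι2 n2) w = 1 := by
    intro w hw
    have hm := goodRels_model_ok
    rw [List.all_eq_true] at hm
    have hm' := ev_eq_of_wordsEqB (hm w hw)
    have hwl : ∀ l ∈ w, l < 14 := by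
      have := goodSys_ok.2.2.2
      simp only [List.all_eq_true, Nat.blt_eq] at this
      exact this w hw
    refine Prod.ext ?_ ?_
    · show fsG (ev (gl ι2 n2) w) = 1
      rw [map_ev, ← hgood w hw]
      refine ev_congr w fun l _ => ?_
      simp only [gl]
      split_ifs <;> rfl
    · show snP (ev (gl ι2 n2) w) = 1
      rw [map_ev, show (1 : Equiv.Perm (Fin 275)) = ev (letter 0) [] from rfl, ← hm']
      refine ev_congr w fun l hl => ?_
      by_cases h12 : l < 12
      · simp only [gl, if_pos h12]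
        exact (coe_xm h12).trans (letter_eq_xLetter 0 h12).symm
      · rcases (by have := hwl l hl; omega : l = 12 ∨ l = 13) with rfl | rfl
        · simp [gl]; rfl
        · simp only [gl, if_neg h12, show ¬(13 : ℕ) = 12 by norm_num, if_false]
          exact (isCode_letter 0 (show 12 < 14 by norm_num)).2.symm
  set K := Subgroup.closure (Set.range ι2 ∪ {n2})
  have hcard : Nat.card K ≤ 898128000 := card_closure_le hrel
  have himg : K.map snP = McLRec.Mgrp := by
    rw [← modelGrp_eq, MonoidHom.map_closure, Set.image_union, Set.image_singleton, ← Set.range_comp]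
    rfl
  have himg1 : K.map fsG = Subgroup.closure (Set.range S.iota ∪ {n0}) := by
    rw [MonoidHom.map_closure, Set.image_union, Set.image_singleton, ← Set.range_comp]
    rfl
  -- the second projection is an isomorphism onto the group of the model
  let π : K →* ↥(K.map snP) := snP.subgroupMap K
  have hπs : Function.Surjective π := MonoidHom.subgroupMap_surjective snP K
  have hπ : Function.Bijective π := by
    refine (Nat.bijective_iff_surjective_and_card π).2 ⟨hπs, le_antisymm ?_ (Nat.card_le_card_of_surjective π hπs)⟩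
    rw [himg, McLRec.card_Mgrp]
    exact hcard
  let eK : K ≃* ↥McLRec.Mgrp := (MulEquiv.ofBijective π hπ).trans (MulEquiv.subgroupCongr himg)
  have := simple_Mgrp
  have hsimp : IsSimpleGroup K := eK.isSimpleGroup
  let ρ : K →* ↥(K.map fsG) := fsG.subgroupMap K
  have hρs : Function.Surjective ρ := MonoidHom.subgroupMap_surjective fsG K
  have hρ : Function.Injective ρ := by
    rw [← MonoidHom.ker_eq_bot_iff]
    refine (hsimp.eq_bot_or_eq_top_of_normal ρ.ker inferInstance).resolve_right fun htop => ?_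
    have hk : (⟨ι2 (xm 0), Subgroup.subset_closure (Or.inl ⟨_, rfl⟩)⟩ : K) ∈ ρ.ker := by
      rw [htop]; exact Subgroup.mem_top _
    have h2 : S.iota (xm 0) = 1 := congrArg Subtype.val (MonoidHom.mem_ker.1 hk)
    rw [← map_one S.iota] at h2
    have h3 : ev xm [0] = ev xm [] := by rw [ev_singleton, ev_nil]; exact S.inj h2
    exact xm_ne_of_neB (show neB [0] [] = true by decide +kernel) h3
  refine ⟨K.map fsG, ?_, ⟨(MulEquiv.ofBijective ρ ⟨hρ, hρs⟩).symm.trans eK⟩⟩
  rw [himg1]
  rintro _ ⟨c, rfl⟩
  exact Subgroup.subset_closure (Or.inl ⟨c, rfl⟩)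

end CfsgLib.McLSub
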