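import Cfsg.Agent.Lib.McLSub.Stab
import Cfsg.Agent.Lib.McLType.NEFusion
import Cfsg.Agent.Lib.McLType.Coord
import Cfsg.Agent.Lib.McLType.CertBad

/-!
# Coordinates on a subgroup of the centraliser of an involution

The double cover of degree eight is embedded in the centraliser of `t`, which may be larger.
-/

set_option autoImplicit false
set_option maxRecDepth 100000
set_option linter.unusedSectionVars false

namespace CfsgLib.McLSub

open Subgroup CfsgLib.McLType CfsgLib.McLType.NE

/-- The coordinates of the model group itself. -/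
noncomputable def co₀ : Coord (tm : Cm) where
  iota := MonoidHom.id Cm
  inj := Function.injective_id
  map_t := rfl
  range_eq := by
    rw [MonoidHom.range_eq_top.2 Function.surjective_id]
    exact (eq_top_iff.2 fun c _ => mem_centralizer_singleton_iff.2 (cm_comm_tm c)).symm

theorem card₀ : Nat.card (centralizer ({tm} : Set Cm)) = 40320 := by
  rw [← co₀.range_eq, MonoidHom.range_eq_top.2 Function.surjective_id, card_top, card_Cm]

variable {G : Type*} [Group G]

/-- The parametrisation of the elementary subgroups in the image. -/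
noncomputable def eS (ι : Cm →* G) (k : Fin 2) (i : Fin 16) : G := ι (eG co₀ k i)

/-- The elementary subgroup as a set. -/
def eSet (ι : Cm →* G) (k : Fin 2) : Set G := Set.range (eS ι k)

/-- Coordinates on a subgroup of the centraliser. -/
structure Sub (t : G) where
  /-- The embedding. -/
  iota : Cm →* G
  inj : Function.Injective iota
  map_t : iota tm = t
  /-- The normalisers of the elementary subgroups lie in the image. -/
  norm_mem : ∀ (k : Fin 2) (x : G), x * t = t * x → x ∈ normalizer (eSet iota k) → x ∈ iota.range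

theorem evG_map (ι : Cm →* G) (a b : Cm) : ∀ w, ι (evG a b w) = evG (ι a) (ι b) w
  | [] => map_one ι
  | d :: w => by
    rw [evG, evG, map_mul, evG_map ι a b w]
    cases d <;> rfl

variable [Finite G] {t : G} (S : Sub t)

theorem range_le : S.iota.range ≤ centralizer ({t} : Set G) := by
  rintro _ ⟨c, rfl⟩
  rw [mem_centralizer_singleton_iff]
  calc S.iota c * t = S.iota c * S.iota tm := by rw [S.map_t]
    _ = S.iota tm * S.iota c := by rw [← map_mul, ← map_mul, cm_comm_tm]
    _ = t * S.iota c := by rw [S.map_t]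

theorem card_range : Nat.card S.iota.range = 40320 := by
  rw [← Nat.card_congr (MonoidHom.ofInjective S.inj).toEquiv, card_Cm]

theorem eS_one (k : Fin 2) : eS S.iota k 1 = t := by rw [eS, eG_one, S.map_t]

theorem eS_two (ι : Cm →* G) (k : Fin 2) : eS ι k 2 = ι bm := by rw [eS, eG_two]; rfl

theorem acts_map (ι : Cm →* G) {k : Fin 2} {x : Cm} {p : Fin 16 → Fin 16}
    (h : Acts (eG co₀ k) x p) : Acts (eS ι k) (ι x) p := fun i => by
  show ι x * ι (eG co₀ k i) * (ι x)⁻¹ = ι (eG co₀ k (p i))
  rw [← h i, map_mul, map_mul, map_inv]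

theorem setupS (k : Fin 2) : Setup (eS S.iota k) (centralizer ({t} : Set G)) (S.iota (l1G co₀ k))
    (S.iota (l2G co₀ k)) (c1D k) (c2D k) := by
  have h := setup co₀ k
  exact ⟨fun i j => by rw [eS, eS, eS, ← map_mul, h.mul], fun i j e => h.inj (S.inj e),
    fun i => range_le S ⟨_, rfl⟩, range_le S ⟨_, rfl⟩, range_le S ⟨_, rfl⟩, acts_map _ h.act1,
    acts_map _ h.act2, by rw [eS_one]⟩

/-- An element with the prescribed action, given an exchanging element. -/
theorem exists_n_of_swap (k : Fin 2) {g : G} (h1 : g * t * g⁻¹ = S.iota bm) (h2 : g * S.iota bm * g⁻¹ = t)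
    (hgE : g ∈ normalizer (eSet S.iota k)) :
    ∃ n, Acts (eS S.iota k) n (lin (abarD k)) ∧ ∀ w : List (Fin 3), evC3 (c1D k) (c2D k) (abarD k) w = idC →
      evG3 (S.iota (l1G co₀ k)) (S.iota (l2G co₀ k)) n w = 1 :=
  McLSub.exists_n (setupS S k) (wD k) (wD_inj k) S.iota.range
    (fun x hx hn => S.norm_mem k x (mem_centralizer_singleton_iff.1 hx) hn)
    (range_le S) (card_range S) (fun a => S.iota (csG co₀ k a)) (fun _ => ⟨_, rfl⟩) (fun _ => ⟨_, rfl⟩)
    (fun j => ⟨_, evG_map S.iota _ _ (wD k j)⟩)
    (fun a b hab => by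
      obtain ⟨i, hi⟩ := csG_dist (co := co₀) k a b hab
      exact ⟨i, fun m e => hi m (S.inj (by simpa [eS] using e))⟩)
    (by
      obtain ⟨j, hj, hj1⟩ := id_word (co := co₀) card₀ k
      exact ⟨j, hj, by rw [← evG_map, hj1, map_one]⟩)
    (fun j => by
      obtain ⟨⟨a, ha⟩, b, hb⟩ := closedG (co := co₀) card₀ k j
      exact ⟨⟨a, by rw [← evG_map, ← evG_map, ← map_mul, ha]⟩,
        b, by rw [← evG_map, ← evG_map, ← map_mul, hb]⟩)
    (orb_spec k) (abarD k) (cand_spec k) (relR k)
    (fun r hr => by rw [← evG_map, relR_spec (co := co₀) card₀ k r hr, map_one])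
    (lift_ok k) g (by rw [eS_one, eS_two, h1]) (by rw [eS_one, eS_two, h2]) hgE

end CfsgLib.McLSub
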