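import Cfsg.Agent.Lib.McLSub.Coord
import Cfsg.Agent.Lib.McLType.NEExists
import Cfsg.Agent.Lib.McLType.Variants

/-!
# The further element satisfies the relators
-/

set_option autoImplicit false
set_option maxRecDepth 100000
set_option linter.unusedSectionVars false

namespace CfsgLib.McLSub

open Subgroup CfsgLib.McLType CfsgLib.McLType.NE

variable {G : Type*} [Group G] [Finite G] {t : G} (S : Sub t)

theorem gl_n {M : Type*} [Group M] (ι : Cm →* M) (n : M) : gl ι n 12 = n := by simp [gl]

theorem gl_n' {M : Type*} [Group M] (ι : Cm →* M) (n : M) : gl ι n 13 = n⁻¹ := by simp [gl]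

/-- The element joining the centraliser to the normaliser of an elementary subgroup of order sixteen. -/
theorem exists_word_n (k : Fin 2) {g : G} (h1 : g * t * g⁻¹ = S.iota bm) (h2 : g * S.iota bm * g⁻¹ = t)
    (hgE : g ∈ normalizer (eSet S.iota k)) : ∃ n : G, ∀ w ∈ relN k, ev (gl S.iota n) w = 1 := by
  obtain ⟨n, hn, hw⟩ := exists_n_of_swap S k h1 h2 hgE
  refine ⟨n, ?_⟩
  have hx : ∀ u, okW u = true → ev (gl S.iota n) u = S.iota (el co₀ u) := fun u hu => gl_x S.iota n u (okW_iff.1 hu)
  have hlw := okW_words k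
  simp only [Bool.and_eq_true] at hlw
  intro w hwmem
  rcases List.mem_append.1 hwmem with hwmem | hwmem
  · -- conjugation relators
    simp only [eRels, List.mem_map, List.mem_range] at hwmem
    obtain ⟨i, hi, rfl⟩ := hwmem
    obtain ⟨he, hlt, hlin⟩ := swap_word k ⟨i, hi⟩
    simp only at he hlt hlin
    have hp : 2 ^ i % 16 = 2 ^ i := Nat.mod_eq_of_lt (by
      calc 2 ^ i < 2 ^ 4 := Nat.pow_lt_pow_right (by norm_num) hi
        _ = 16 := by norm_num)
    obtain ⟨a, ha⟩ : ∃ a : Fin 16, a.val = (actImg k).getD i 0 := ⟨⟨_, hlt⟩, rfl⟩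
    obtain ⟨d, hd⟩ : ∃ d : Fin 16, d.val = 2 ^ i % 16 := ⟨⟨_, Nat.mod_lt _ (by norm_num)⟩, rfl⟩
    have hact : lin (abarD k) d = a := Fin.ext (by
      rw [ha, ← hlin]; exact congrArg (fun z => (lin (abarD k) z).val) (Fin.ext hd))
    rw [he, ← ha, ← hp, ← hd, ev_cons, gl_n, ev_append, hx _ (okW_mask k d), ev_cons, gl_n',
      hx _ (okW_inv (okW_mask k a)), el_invWord co₀ (okW_mask k a), ← mul_assoc, ← mul_assoc]
    rw [map_inv, show S.iota (el co₀ (maskWord k d.val)) = eS S.iota k d from rfl, hn d, hact]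
    exact mul_inv_cancel _
  · -- relators acting trivially
    simp only [List.mem_map] at hwmem
    obtain ⟨v, hv, rfl⟩ := hwmem
    obtain ⟨hall, h1, h3, h5⟩ := sym_ok k
    simp only [List.all_eq_true, Nat.beq_eq] at hall
    have hsym : ∀ s, ev (gl S.iota n) (symWord k s) = evG3 (S.iota (l1G co₀ k)) (S.iota (l2G co₀ k)) n (trS k s) := by
      intro s
      match s with
      | 0 =>
        rw [symWord, trS, evG3_singleton, hx _ hlw.1.1]; rfl
      | 1 =>
        have h := hw _ h1
        rw [evG3] at h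
        rw [symWord, hx _ (okW_inv hlw.1.1), el_invWord co₀ hlw.1.1, map_inv]
        exact inv_eq_of_mul_eq_one_right h
      | 2 =>
        rw [symWord, trS, evG3_singleton, hx _ hlw.1.2]; rfl
      | 3 =>
        have h := hw _ h3
        rw [evG3] at h
        rw [symWord, hx _ (okW_inv hlw.1.2), el_invWord co₀ hlw.1.2, map_inv]
        exact inv_eq_of_mul_eq_one_right h
      | 4 =>
        rw [symWord, trS, evG3_singleton, ev_singleton, gl_n]; rfl
      | s + 5 =>
        have h := hw _ h5
        rw [evG3] at h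
        have hs : symWord k (s + 5) = [13] ∧ trS k (s + 5) = trS k 5 := ⟨rfl, rfl⟩
        rw [hs.1, hs.2, ev_singleton, gl_n']
        exact inv_eq_of_mul_eq_one_right h
    rw [← hw _ (hall v hv)]
    clear hv hwmem
    induction v with
    | nil => rfl
    | cons s v ih =>
      rw [List.map_cons, List.map_cons, List.flatten_cons, List.flatten_cons, ev_append, evG3_append, hsym, ih]

end CfsgLib.McLSub
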