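import Cfsg.Agent.Lib.McLType.NormalizerE

/-!
# An element of the normaliser with prescribed action, the double cover being a subgroup of the centraliser

As `McLType.NormalizerE`, but only a subgroup `C₀` of order 40320 of the centraliser `C` is given, containing
the part of `C` normalising the elementary subgroup.
-/

set_option autoImplicit false
set_option linter.unusedSectionVars false

namespace CfsgLib.McLSub

open Subgroup CfsgLib.McLType.NE

variable {G : Type*} [Group G] [Finite G] {e : Fin 16 → G} {C : Subgroup G} {l1 l2 : G} {c1 c2 : ℕ}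

variable (S : Setup e C l1 l2 c1 c2) (W : Fin 168 → List Bool)
  (hWinj : Function.Injective fun j => evC c1 c2 (W j)) (C₀ : Subgroup G)
  (hsub : ∀ x ∈ C, x ∈ normalizer (esub S : Set G) → x ∈ C₀) (hle : C₀ ≤ C) (hcard : Nat.card C₀ = 40320)
  (cs : Fin 15 → G) (hcs : ∀ a, cs a ∈ C₀) (he₀ : ∀ i, e i ∈ C₀) (hw₀ : ∀ j, evG l1 l2 (W j) ∈ C₀)
  (hdist : ∀ a b, a ≠ b → ∃ k, ∀ m, cs a * e k * (cs a)⁻¹ ≠ cs b * e m * (cs b)⁻¹)

include hWinj hsub hle hcard hcs he₀ hw₀ hdist in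
/-- The part of `C` normalising the subgroup. -/
theorem stab_eq {c : G} (hc : c ∈ C) (hcN : c ∈ normalizer (esub S : Set G)) :
    ∃ i j, c = e i * evG l1 l2 (W j) := by
  classical
  obtain ⟨P, hP⟩ : ∃ P : Subgroup G, P = C₀ ⊓ normalizer (esub S : Set G) := ⟨_, rfl⟩
  have hmem : ∀ x : Fin 16 × Fin 168, e x.1 * evG l1 l2 (W x.2) ∈ P := fun x => by
    rw [hP]
    exact ⟨mul_mem (he₀ _) (hw₀ _), mul_mem (le_normalizer (mem_esub.2 ⟨x.1, rfl⟩))
      (S.mem_normalizer (S.acts_word _))⟩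
  let f : Fin 16 × Fin 168 → P := fun x => ⟨_, hmem x⟩
  have hf : Function.Injective f := by
    rintro ⟨i, a⟩ ⟨j, b⟩ h
    have h' : e i * evG l1 l2 (W a) = e j * evG l1 l2 (W b) := congrArg Subtype.val h
    have ha : Acts e (e i * evG l1 l2 (W a)) (lin (evC c1 c2 (W a))) := fun k => by
      calc e i * evG l1 l2 (W a) * e k * (e i * evG l1 l2 (W a))⁻¹
          = e i * (evG l1 l2 (W a) * e k * (evG l1 l2 (W a))⁻¹) * (e i)⁻¹ := by group
        _ = _ := by rw [S.acts_word, S.acts_e]; rfl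
    have hb : Acts e (e j * evG l1 l2 (W b)) (lin (evC c1 c2 (W b))) := fun k => by
      calc e j * evG l1 l2 (W b) * e k * (e j * evG l1 l2 (W b))⁻¹
          = e j * (evG l1 l2 (W b) * e k * (evG l1 l2 (W b))⁻¹) * (e j)⁻¹ := by group
        _ = _ := by rw [S.acts_word, S.acts_e]; rfl
    have hcodes : evC c1 c2 (W a) = evC c1 c2 (W b) := by
      rw [← evC_self c1 c2 (W a), ← evC_self c1 c2 (W b)]
      exact congrArg code (funext fun k => S.acts_unique (h' ▸ ha) hb k)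
    obtain rfl := hWinj hcodes
    exact Prod.ext (S.inj (mul_right_cancel h')) rfl
  -- the index is at least fifteen
  have hidx : 15 ≤ (P.subgroupOf C₀).index := by
    rw [index]
    refine le_trans (by simp : 15 ≤ Nat.card (Fin 15)) (Nat.card_le_card_of_injective
      (fun a => ((⟨cs a, hcs a⟩ : C₀) : C₀ ⧸ P.subgroupOf C₀)) fun a b hab => ?_)
    by_contra hne
    obtain ⟨k, hk⟩ := hdist a b hne
    have h1 := QuotientGroup.eq.1 hab
    rw [mem_subgroupOf, hP] at h1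
    obtain ⟨m, hm⟩ := (mem_normalizer_iff.1 (inv_mem h1.2) _).1 (mem_esub.2 ⟨k, rfl⟩)
    refine hk m ?_
    push_cast at hm
    rw [hm]; group
  have hPC : P ≤ C₀ := hP ▸ inf_le_left
  have h2688 : Nat.card (Fin 16 × Fin 168) = 2688 := by simp
  have hle : Nat.card P ≤ 2688 := by
    have h1 := (P.subgroupOf C₀).card_mul_index
    rw [hcard, Nat.card_congr (subgroupOfEquivOfLe hPC).toEquiv] at h1
    have h2 : Nat.card P * 15 ≤ Nat.card P * (P.subgroupOf C₀).index := Nat.mul_le_mul_left _ hidx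
    omega
  have hbij : Function.Bijective f := hf.bijective_of_nat_card_le (h2688.symm ▸ hle)
  obtain ⟨⟨i, j⟩, hij⟩ := hbij.2 ⟨c, hP ▸ ⟨hsub c hc hcN, hcN⟩⟩
  exact ⟨i, j, (congrArg Subtype.val hij).symm⟩

include hWinj hsub hle hcard hcs he₀ hw₀ hdist in
/-- The subgroup is self-centralising. -/
theorem centralizer_eq {x : G} (hx : ∀ i, x * e i * x⁻¹ = e i)
    (hid : ∃ j, evC c1 c2 (W j) = idC ∧ evG l1 l2 (W j) = 1) : x ∈ esub S := by
  have hxC : x ∈ C := by
    rw [S.hC, mem_centralizer_singleton_iff]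
    exact mul_inv_eq_iff_eq_mul.1 (hx 1)
  obtain ⟨i, j, hij⟩ := stab_eq S W hWinj C₀ hsub hle hcard cs hcs he₀ hw₀ hdist hxC (S.mem_normalizer (p := id) hx)
  obtain ⟨j₀, hj₀, hj₀1⟩ := hid
  have ha : Acts e (evG l1 l2 (W j)) id := fun k => by
    have h1 : evG l1 l2 (W j) = (e i)⁻¹ * x := by rw [hij]; group
    rw [h1]
    calc (e i)⁻¹ * x * e k * ((e i)⁻¹ * x)⁻¹ = (e i)⁻¹ * (x * e k * x⁻¹) * e i := by group
      _ = e k := by rw [hx, S.inv, S.mul, S.mul, xr_comm i k, xr_assoc, xr_self, xr_zero]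
  have hj : j = j₀ := hWinj (by
    show evC c1 c2 (W j) = evC c1 c2 (W j₀)
    rw [hj₀, ← evC_self c1 c2 (W j)]
    exact congrArg code (funext fun k => S.acts_unique (S.acts_word _) ha k))
  exact mem_esub.2 ⟨i, by rw [hij, hj, hj₀1, mul_one]⟩

include hWinj hsub hle hcard hcs he₀ hw₀ hdist in
/-- **The element with prescribed action.** -/
theorem exists_n
    (hid : ∃ j, evC c1 c2 (W j) = idC ∧ evG l1 l2 (W j) = 1)
    (hclosed : ∀ j : Fin 168, (∃ a, l1 * evG l1 l2 (W j) = evG l1 l2 (W a)) ∧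
      ∃ a, l2 * evG l1 l2 (W j) = evG l1 l2 (W a))
    (horb : ∀ m : Fin 16, m ≠ 0 → m ≠ 1 → ∃ j, lin (evC c1 c2 (W j)) 2 = m)
    (abar : ℕ)
    (hcand : ∀ a4 a8 : Fin 16, (∃ i, i ≠ 0 ∧ lin (2 + 16 * 1 + 256 * a4.val + 4096 * a8.val) i = 0) ∨
      (∃ j, comp abar (evC c1 c2 (W j)) = 2 + 16 * 1 + 256 * a4.val + 4096 * a8.val) ∨
      ∃ j, lin (comp (2 + 16 * 1 + 256 * a4.val + 4096 * a8.val)
          (comp (evC c1 c2 (W j)) (2 + 16 * 1 + 256 * a4.val + 4096 * a8.val))) 1 = 1 ∧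
        ∀ a, evC c1 c2 (W a) ≠ comp (2 + 16 * 1 + 256 * a4.val + 4096 * a8.val)
          (comp (evC c1 c2 (W j)) (2 + 16 * 1 + 256 * a4.val + 4096 * a8.val)))
    (R : List (List Bool)) (hR : ∀ r ∈ R, evG l1 l2 r = 1)
    (hlift : ∀ i j : Fin 16, (∀ r ∈ R, evV c1 c2 i j r = 0) →
      ∃ k, i = xr k (lin c1 k) ∧ j = xr k (lin c2 k))
    (g : G) (hg1 : g * e 1 * g⁻¹ = e 2) (hg2 : g * e 2 * g⁻¹ = e 1)
    (hgE : g ∈ normalizer (esub S : Set G)) :
    ∃ n, Acts e n (lin abar) ∧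
      ∀ w : List (Fin 3), evC3 c1 c2 abar w = idC → evG3 l1 l2 n w = 1 := by
  classical
  obtain ⟨N, hNd⟩ : ∃ N, N = normalizer (esub S : Set G) := ⟨_, rfl⟩
  have hst : ∀ {c : G}, c ∈ C → c ∈ N → ∃ i j, c = e i * evG l1 l2 (W j) := fun hc hcN =>
    stab_eq S W hWinj C₀ hsub hle hcard cs hcs he₀ hw₀ hdist hc (hNd ▸ hcN)
  have hN : ∀ {x : G} {p : Fin 16 → Fin 16}, Acts e x p → x ∈ N := fun h => hNd ▸ S.mem_normalizer h
  have heN : ∀ i, e i ∈ N := fun i => hN (S.acts_e i)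
  have hwN : ∀ w, evG l1 l2 w ∈ N := fun w => hN (S.acts_word w)
  -- the action of `g`
  obtain ⟨cg, hcg⟩ := S.exists_acts hgE
  obtain ⟨cga, hcga⟩ : ∃ c, c = code (lin cg) := ⟨_, rfl⟩
  have hga : Acts e g (lin cga) := hcga ▸ S.acts_code hcg
  have hform : cga = 2 + 16 * 1 + 256 * (lin cg 4).val + 4096 * (lin cg 8).val := by
    rw [hcga, code, S.inj ((hcg 1).symm.trans hg1), S.inj ((hcg 2).symm.trans hg2)]; rfl
  obtain ⟨j₁, hj₁⟩ : ∃ j, comp abar (evC c1 c2 (W j)) = cga := by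
    rcases hcand (lin cg 4) (lin cg 8) with ⟨i, hi, hi0⟩ | h | ⟨j, hj1, hj2⟩
    · exfalso
      rw [← hform] at hi0
      have h1 := hga i
      rw [hi0, S.one, mul_inv_eq_one, mul_eq_left] at h1
      exact hi (S.inj (h1.trans S.one.symm))
    · rwa [← hform] at h
    · exfalso
      rw [← hform] at hj1 hj2
      have hx := S.acts_comp hga (S.acts_comp (S.acts_word (W j)) hga)
      have hxC : g * (evG l1 l2 (W j) * g) ∈ C := by
        rw [S.hC, mem_centralizer_singleton_iff]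
        have h1 := hx 1
        rw [hj1] at h1
        exact mul_inv_eq_iff_eq_mul.1 h1
      obtain ⟨i, a, hia⟩ := hst hxC (hN hx)
      refine hj2 a ?_
      rw [← evC_self c1 c2 (W a), ← code_lin (comp_lt cga (comp (evC c1 c2 (W j)) cga))]
      refine congrArg code (funext fun k => S.acts_unique (x := evG l1 l2 (W a)) (S.acts_word _) ?_ k)
      intro m
      rw [show evG l1 l2 (W a) = e i * (g * (evG l1 l2 (W j) * g)) by rw [hia, ← mul_assoc, S.mul, xr_self, S.one, one_mul]]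
      calc _ = e i * (g * (evG l1 l2 (W j) * g) * e m * (g * (evG l1 l2 (W j) * g))⁻¹) * (e i)⁻¹ := by group
        _ = _ := by rw [hx m, S.acts_e]; rfl
  obtain ⟨n₀, hn₀d⟩ : ∃ n₀, n₀ = g * (evG l1 l2 (W j₁))⁻¹ := ⟨_, rfl⟩
  have hn₀ : Acts e n₀ (lin abar) := by
    have hw := S.acts_word (W j₁)
    have hinj : Function.Injective (lin (evC c1 c2 (W j₁))) := fun a b hab => by
      have h1 := (hw a).trans ((congrArg e hab).trans (hw b).symm)
      exact S.inj (mul_left_cancel (mul_right_cancel h1))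
    intro i
    obtain ⟨k, rfl⟩ := Finite.surjective_of_injective hinj i
    rw [← lin_comp, hj₁, ← hga k, hn₀d, ← hw k]
    group
  -- the centraliser of `e 1` in `N` has index fifteen
  obtain ⟨U, hUd⟩ : ∃ U : Subgroup ↥N, U = C.subgroupOf N := ⟨_, rfl⟩
  have hidx : U.index = 15 := by
    have hsel : ∀ x : ↥N, ∃ m : {m : Fin 16 // m ≠ 0}, (x : G) * e 1 * (x : G)⁻¹ = e m.1 := by
      intro x
      obtain ⟨c, hc⟩ := S.exists_acts (x := (x : G)) (by rw [← hNd]; exact x.2)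
      refine ⟨⟨lin c 1, fun h0 => ?_⟩, hc 1⟩
      have h1 := hc 1
      rw [h0, S.one, mul_inv_eq_one, mul_eq_left] at h1
      exact absurd (S.inj (h1.trans S.one.symm)) (by decide)
    choose φ hφ using hsel
    have hiff : ∀ x y : ↥N, φ x = φ y ↔ x⁻¹ * y ∈ U := by
      intro x y
      rw [hUd, mem_subgroupOf, S.hC, mem_centralizer_singleton_iff]
      push_cast
      constructor
      · intro h
        have h1 : (x : G) * e 1 * (x : G)⁻¹ = (y : G) * e 1 * (y : G)⁻¹ := by rw [hφ, hφ, h]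
        calc (x : G)⁻¹ * y * e 1 = (x : G)⁻¹ * ((y : G) * e 1 * (y : G)⁻¹) * y := by group
          _ = e 1 * ((x : G)⁻¹ * y) := by rw [← h1]; group
      · intro h
        refine Subtype.ext (S.inj ?_)
        rw [← hφ, ← hφ]
        calc (x : G) * e 1 * (x : G)⁻¹ = (x : G) * (e 1 * ((x : G)⁻¹ * y)) * (y : G)⁻¹ := by group
          _ = (y : G) * e 1 * (y : G)⁻¹ := by rw [← h]; group
    let ψ : ↥N ⧸ U → {m : Fin 16 // m ≠ 0} := Quotient.lift φ fun a b hab =>
      (hiff a b).2 (QuotientGroup.leftRel_apply.1 hab)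
    have hb : Function.Bijective ψ := by
      refine ⟨fun a b => ?_, fun m => ?_⟩
      · induction a using QuotientGroup.induction_on with | _ x =>
        induction b using QuotientGroup.induction_on with | _ y =>
        intro h
        exact QuotientGroup.eq.2 ((hiff x y).1 h)
      · have hex : ∃ x ∈ N, x * e 1 * x⁻¹ = e m.1 := by
          by_cases hm1 : m.1 = 1
          · exact ⟨1, one_mem N, by rw [hm1]; group⟩
          · obtain ⟨j, hj⟩ := horb m.1 m.2 hm1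
            refine ⟨evG l1 l2 (W j) * g, mul_mem (hwN _) (hN hga), ?_⟩
            calc evG l1 l2 (W j) * g * e 1 * (evG l1 l2 (W j) * g)⁻¹
                = evG l1 l2 (W j) * (g * e 1 * g⁻¹) * (evG l1 l2 (W j))⁻¹ := by group
              _ = e m.1 := by rw [hg1, S.acts_word (W j) 2, hj]
        obtain ⟨x, hxN, hx⟩ := hex
        exact ⟨((⟨x, hxN⟩ : ↥N) : ↥N ⧸ U), Subtype.ext (S.inj ((hφ ⟨x, hxN⟩).symm.trans hx))⟩
    rw [index, Nat.card_congr (Equiv.ofBijective ψ hb), Nat.card_eq_fintype_card, Fintype.card_subtype_compl]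
    simp
  -- the words form a complement in `C ∩ N`
  obtain ⟨K, hKd⟩ : ∃ K : Subgroup ↥N, K = (esub S).subgroupOf N := ⟨_, rfl⟩
  haveI hKn : K.Normal := ⟨fun y hy x => by
    rw [hKd, mem_subgroupOf] at hy ⊢
    exact (mem_normalizer_iff.1 (show (x : G) ∈ normalizer (esub S : Set G) by rw [← hNd]; exact x.2) _).1 hy⟩
  have hKmem : ∀ {y : ↥N}, y ∈ K ↔ ∃ i, e i = (y : G) := fun {y} => by rw [hKd, mem_subgroupOf]; exact mem_esub
  obtain ⟨j₀, hj₀, hj₀1⟩ := hid
  let Lw : Submonoid ↥N :=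
    { carrier := {y | ∃ j, evG l1 l2 (W j) = (y : G)}
      one_mem' := ⟨j₀, hj₀1⟩
      mul_mem' := by
        rintro ⟨a, ha⟩ ⟨b, hb⟩ ⟨i, rfl⟩ ⟨j, rfl⟩
        have key : ∀ w, ∃ k, evG l1 l2 (W k) = evG l1 l2 w * evG l1 l2 (W j) := by
          intro w
          induction w with
          | nil => exact ⟨j, by simp [evG]⟩
          | cons d w ih =>
            obtain ⟨k, hk⟩ := ih
            obtain ⟨⟨k1, h1⟩, ⟨k2, h2⟩⟩ := hclosed k
            cases d
            · exact ⟨k2, by rw [← h2, hk, evG, mul_assoc]; rfl⟩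
            · exact ⟨k1, by rw [← h1, hk, evG, mul_assoc]; rfl⟩
        exact key (W i) }
  obtain ⟨A, hAd⟩ : ∃ A : Subgroup ↥N, ∀ y, y ∈ A ↔ ∃ j, evG l1 l2 (W j) = (y : G) := by
    refine ⟨{ Lw with inv_mem' := fun {y} hy => ?_ }, fun y => Iff.rfl⟩
    have h1 : y⁻¹ = y ^ (orderOf y - 1) := by
      refine inv_eq_of_mul_eq_one_right ?_
      rw [← pow_succ', Nat.sub_add_cancel (orderOf_pos y), pow_orderOf_eq_one]
    rw [h1]
    exact Lw.pow_mem hy _
  have hAK : A ⊓ K = ⊥ := by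
    refine (eq_bot_iff_forall _).2 fun y hy => Subtype.ext ?_
    obtain ⟨j, hj⟩ := (hAd y).1 hy.1
    obtain ⟨i, hi⟩ := hKmem.1 hy.2
    have hjj : j = j₀ := hWinj (by
      show evC c1 c2 (W j) = evC c1 c2 (W j₀)
      rw [hj₀, ← evC_self c1 c2 (W j)]
      exact congrArg code (funext fun k => S.acts_unique (S.acts_word _) (p := lin (evC c1 c2 (W j))) (q := id)
        (by rw [hj, ← hi]; exact S.acts_e i) k))
    rw [← hj, hjj, hj₀1]; rfl
  have hKU : K ≤ U := fun y hy => by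
    obtain ⟨i, hi⟩ := hKmem.1 hy
    rw [hUd, mem_subgroupOf, ← hi]
    exact S.eC i
  have hAU : A ≤ U := fun y hy => by
    obtain ⟨j, hj⟩ := (hAd y).1 hy
    rw [hUd, mem_subgroupOf, ← hj]
    exact S.word_mem _
  have hsup : K ⊔ A = U := by
    refine le_antisymm (sup_le hKU hAU) fun y hy => ?_
    rw [hUd, mem_subgroupOf] at hy
    obtain ⟨i, j, hij⟩ := hst hy y.2
    rw [show y = ⟨e i, heN i⟩ * ⟨evG l1 l2 (W j), hwN _⟩ from Subtype.ext hij]
    exact mul_mem (mem_sup_left (hKmem.2 ⟨i, rfl⟩)) (mem_sup_right ((hAd _).2 ⟨j, rfl⟩))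
  have hKcard : Nat.card K = 16 := by
    rw [hKd, Nat.card_congr (subgroupOfEquivOfLe (hNd ▸ le_normalizer)).toEquiv, S.card_esub]
  obtain ⟨H, hH⟩ := CfsgLib.Solvable.gaschutz_exists K U (fun y hy z hz => by
      obtain ⟨i, hi⟩ := hKmem.1 hy
      obtain ⟨j, hj⟩ := hKmem.1 hz
      exact Subtype.ext (by rw [coe_mul, coe_mul, ← hi, ← hj, S.mul, S.mul, xr_comm]))
    hKU (by rw [hKcard, hidx]; decide) A hAU hAK hsup
  obtain ⟨H', hH'd⟩ : ∃ H' : Subgroup G, H' = H.map N.subtype := ⟨_, rfl⟩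
  have hH'N : H' ≤ N := hH'd ▸ map_subtype_le H
  have hH'E : ∀ i, e i ∈ H' → e i = 1 := by
    intro i hi
    rw [hH'd] at hi
    obtain ⟨y, hy, hye⟩ := hi
    have : y ∈ K ⊓ H := ⟨hKmem.2 ⟨i, hye.symm⟩, hy⟩
    rw [hH.disjoint.eq_bot, mem_bot] at this
    rw [← hye, this]; rfl
  -- every element of `N` is `e i` times an element of `H'`
  have hdec : ∀ x ∈ N, ∃ i, e i * x ∈ H' := by
    intro x hx
    obtain ⟨⟨⟨k, hk⟩, ⟨h, hh⟩⟩, hkh⟩ := hH.2 ⟨x, hx⟩
    obtain ⟨i, hi⟩ := hKmem.1 hk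
    refine ⟨i, hH'd ▸ ⟨h, hh, ?_⟩⟩
    have h1 : (k : G) * (h : G) = x := congrArg Subtype.val hkh
    rw [coe_subtype, ← h1, ← hi, ← mul_assoc, S.mul, xr_self, S.one, one_mul]
  obtain ⟨i₁, hi₁⟩ := hdec l1 (hN S.act1)
  obtain ⟨i₂, hi₂⟩ := hdec l2 (hN S.act2)
  obtain ⟨k, hk1, hk2⟩ := hlift i₁ i₂ (fun r hr => by
    have hmem : evG (e i₁ * l1) (e i₂ * l2) r ∈ H' := by
      clear hr
      induction r with
      | nil => exact one_mem _
      | cons d r ih => exact mul_mem (by cases d <;> [exact hi₂; exact hi₁]) ih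
    rw [S.lifts_eq, hR r hr, mul_one] at hmem
    exact S.inj ((hH'E _ hmem).trans S.one.symm))
  have hconj1 : e k * l1 * e k = e i₁ * l1 := by
    rw [hk1, ← S.mul, ← S.act1 k]; group
  have hconj2 : e k * l2 * e k = e i₂ * l2 := by
    rw [hk2, ← S.mul, ← S.act2 k]; group
  obtain ⟨m, hm⟩ := hdec (e k * n₀ * e k) (mul_mem (mul_mem (heN k) (hN hn₀)) (heN k))
  obtain ⟨n, hnd⟩ : ∃ n, n = e k * (e m * (e k * n₀ * e k)) * e k := ⟨_, rfl⟩
  have hkk : e k * e k = 1 := by rw [S.mul, xr_self, S.one]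
  have hnH : e k * n * e k ∈ H' := by
    rw [hnd, show e k * (e k * (e m * (e k * n₀ * e k)) * e k) * e k
      = (e k * e k) * (e m * (e k * n₀ * e k)) * (e k * e k) by simp only [mul_assoc], hkk, one_mul, mul_one]
    exact hm
  have hnA : Acts e n (lin abar) := by
    intro i
    obtain ⟨z, hz⟩ : ∃ z, z = e k * e m * e k := ⟨_, rfl⟩
    have hn' : n = z * n₀ := by
      rw [hnd, hz]
      simp only [mul_assoc]
      rw [hkk, mul_one]
    rw [hn', hz, S.mul, S.mul]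
    calc _ = e (xr (xr k m) k) * (n₀ * e i * n₀⁻¹) * (e (xr (xr k m) k))⁻¹ := by group
      _ = _ := by rw [hn₀, S.acts_e]; rfl
  refine ⟨n, hnA, fun w hw => ?_⟩
  have hact : Acts e (evG3 l1 l2 n w) id := fun i => by
    rw [S.acts_word3 hnA w i, hw, lin_idC]; rfl
  obtain ⟨i, hi⟩ := mem_esub.1 (centralizer_eq S W hWinj C₀ hsub hle hcard cs hcs he₀ hw₀ hdist hact ⟨j₀, hj₀, hj₀1⟩)
  have hcw : ∀ w, e k * evG3 l1 l2 n w * e k ∈ H' := by
    intro w
    induction w with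
    | nil => simpa [evG3, hkk] using one_mem H'
    | cons d w ih =>
      have hd : e k * (![l1, l2, n] d) * e k ∈ H' := by
        fin_cases d
        · exact hconj1 ▸ hi₁
        · exact hconj2 ▸ hi₂
        · exact hnH
      have h1 := mul_mem hd ih
      rwa [show e k * (![l1, l2, n] d) * e k * (e k * evG3 l1 l2 n w * e k)
        = e k * (![l1, l2, n] d) * (e k * e k) * evG3 l1 l2 n w * e k by simp only [mul_assoc],
        hkk, mul_one, mul_assoc (e k)] at h1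
  have h2 := hcw w
  rw [← hi, S.mul, S.mul, xr_comm k i, xr_assoc, xr_self, xr_zero] at h2
  rw [← hi]; exact hH'E i h2

end CfsgLib.McLSub
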